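import Groth.Prelude.Def_Neron
import Groth.Prelude.Def_ActBC
import Groth.Agent.SchTorsor.Props
import Groth.Agent.NeronBasic.Basic
import Groth.Agent.EtFound.Descent
import Mathlib.AlgebraicGeometry.Sites.Fpqc

/-!
An equivariant isomorphism of generic fibres extends as soon as it extends on a faithfully flat cover
over which the torsors acquire sections.
-/

set_option autoImplicit false
set_option linter.style.haveILetI false
set_option backward.isDefEq.respectTransparency false
set_option backward.isDefEq.respectTransparency.types false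

universe u

open CategoryTheory CategoryTheory.Limits MonoidalCategory CartesianMonoidalCategory MonObj AlgebraicGeometry
open Groth.Agent.GrpSchLib.TopDescent

attribute [-instance] CategoryTheory.Hom.commGroup

namespace Groth.Agent.H9TorsInj

variable {R : Type u} [CommRing R] [IsDomain R]


/-- The projection from the generic fibre. -/
noncomputable def eps (Z : Over (Spec (CommRingCat.of R))) : (Over.map (Neron.genPt R)).obj (Red.bc (Neron.genPt R) Z) ⟶ Z :=
  Over.homMk (pullback.fst Z.hom (Neron.genPt R)) (pullback.condition)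

theorem eps_naturality {Z Z' : Over (Spec (CommRingCat.of R))} (j : Z ⟶ Z') :
    (Over.map (Neron.genPt R)).map ((Over.pullback (Neron.genPt R)).map j) ≫ eps Z' = eps Z ≫ j :=
  Over.OverMorphism.ext (pullback.lift_fst _ _ _)

theorem eq_of_generic {Z Y : Over (Spec (CommRingCat.of R))} [Flat Z.hom] [IsSeparated Y.hom] {f₁ f₂ : Z ⟶ Y}
    (h : eps Z ≫ f₁ = eps Z ≫ f₂) : f₁ = f₂ := by
  haveI : IsSchemeTheoreticallyDominant (pullback.fst Z.hom (Neron.genPt R)) := inferInstance
  refine Over.OverMorphism.ext (NeronBasic.eq_of_stDominant Y.hom ?_ (pullback.fst Z.hom (Neron.genPt R))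
    (congrArg CommaMorphism.left h))
  rw [Over.w, Over.w]

variable {G X Y : Over (Spec (CommRingCat.of R))} [GrpObj G] {a : AlgGrp.Action G X} {b : AlgGrp.Action G Y}
  (e : NonAbH1.EquivIso (a.bc (Neron.genPt R)) (b.bc (Neron.genPt R)))

/-- The effect of the generic isomorphism on points. -/
noncomputable def gp {W : Over (Spec (CommRingCat.of (FractionRing R)))} (x : (Over.map (Neron.genPt R)).obj W ⟶ X) :
    (Over.map (Neron.genPt R)).obj W ⟶ Y :=
  ((Over.mapPullbackAdj (Neron.genPt R)).homEquiv W Y).symm ((Over.mapPullbackAdj (Neron.genPt R)).homEquiv W X x ≫ e.iso.hom)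

theorem gp_comp {W W' : Over (Spec (CommRingCat.of (FractionRing R)))} (j : W' ⟶ W)
    (x : (Over.map (Neron.genPt R)).obj W ⟶ X) : gp e ((Over.map (Neron.genPt R)).map j ≫ x) = (Over.map (Neron.genPt R)).map j ≫ gp e x := by
  rw [gp, gp, Adjunction.homEquiv_naturality_left, Category.assoc, Adjunction.homEquiv_naturality_left_symm]

theorem gp_act {W : Over (Spec (CommRingCat.of (FractionRing R)))} (h : (Over.map (Neron.genPt R)).obj W ⟶ G)
    (x : (Over.map (Neron.genPt R)).obj W ⟶ X) : gp e (lift h x ≫ a.act) = lift h (gp e x) ≫ b.act := by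
  apply ((Over.mapPullbackAdj (Neron.genPt R)).homEquiv W Y).injective
  rw [gp, Equiv.apply_symm_apply, ← AlgGrp.Action.lift_homEquiv_bc_act, ← AlgGrp.Action.lift_homEquiv_bc_act, gp,
    Equiv.apply_symm_apply, Category.assoc, e.comm, lift_whiskerLeft_assoc]

theorem isLocallyTrivialFor_self {T : Over (Spec (CommRingCat.of R))} [Flat T.hom] [Surjective T.hom] [QuasiCompact T.hom] :
    NonAbH1.IsLocallyTrivialFor Scheme.fpqcPrecoverage T := by
  refine ⟨Presieve.singleton T.hom, T.hom.singleton_mem_fpqcPrecoverage, ?_⟩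
  rintro S' f ⟨⟩
  exact ⟨𝟙 _, Category.id_comp _⟩

/-- The extension of the generic isomorphism. -/
theorem exists_extension (T : Over (Spec (CommRingCat.of R))) [Flat T.hom] [Surjective T.hom] [QuasiCompact T.hom]
    [Flat G.hom] [Flat X.hom] [IsSeparated Y.hom]
    (ha : NonAbH1.IsPseudoTorsorSch a) (x₀ : T ⟶ X) (y₀ : T ⟶ Y)
    (hy₀ : eps T ≫ y₀ = gp e (eps T ≫ x₀)) :
    ∃ θ : X ⟶ Y, a.act ≫ θ = (G ◁ θ) ≫ b.act := by
  obtain ⟨d, hd⟩ := SchTorsor.exists_div ha (fst X T) (snd X T ≫ x₀)
  let θ₁ : X ⊗ T ⟶ Y := lift d (snd X T ≫ y₀) ≫ b.act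
  have hT := isLocallyTrivialFor_self (T := T)
  have hθ₁ : eps (X ⊗ T) ≫ θ₁ = gp e (eps (X ⊗ T) ≫ fst X T) := by
    have h1 : eps (X ⊗ T) ≫ snd X T = (Over.map (Neron.genPt R)).map ((Over.pullback (Neron.genPt R)).map (snd X T)) ≫ eps T :=
      (eps_naturality _).symm
    simp only [← hd, θ₁, comp_lift_assoc]
    rw [gp_act]
    simp only [← Category.assoc (eps (X ⊗ T)) (snd X T), h1]
    simp only [Category.assoc]
    rw [gp_comp, hy₀]
  let π₁ : X ⊗ (T ⊗ T) ⟶ X ⊗ T := lift (fst _ _) (snd _ _ ≫ fst T T)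
  let π₂ : X ⊗ (T ⊗ T) ⟶ X ⊗ T := lift (fst _ _) (snd _ _ ≫ snd T T)
  haveI : Flat (T ⊗ T).hom := inferInstanceAs (Flat (pullback.fst T.hom T.hom ≫ T.hom))
  haveI : Flat (X ⊗ (T ⊗ T)).hom := inferInstanceAs (Flat (pullback.fst X.hom (T ⊗ T).hom ≫ X.hom))
  have hπ : π₁ ≫ θ₁ = π₂ ≫ θ₁ := by
    refine eq_of_generic ?_
    simp only [← Category.assoc (eps (X ⊗ (T ⊗ T))) _ θ₁, ← eps_naturality]
    simp only [Category.assoc, hθ₁, ← gp_comp]
    congr 1
    simp only [← Category.assoc, eps_naturality]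
    simp [π₁, π₂]
  have hj : HasLocSec Scheme.fpqcTopology (fst X T) :=
    SchTorsor.hasLocSec_of_points (fst X T) hT fun W y t => ⟨lift y t, lift_fst _ _⟩
  obtain ⟨θ, hθ, -⟩ := hj.existsUnique_desc θ₁ fun W p q hpq => by
    let c : W ⟶ X ⊗ (T ⊗ T) := lift (p ≫ fst _ _) (lift (p ≫ snd _ _) (q ≫ snd _ _))
    have hc1 : c ≫ π₁ = p := by ext1 <;> simp [c, π₁]
    have hc2 : c ≫ π₂ = q := by ext1 <;> simp [c, π₂, hpq]
    rw [← hc1, ← hc2, Category.assoc, Category.assoc, hπ]
  have hgen : eps X ≫ θ = gp e (eps X) := by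
    let j := (Over.map (Neron.genPt R)).map ((Over.pullback (Neron.genPt R)).map (fst X T))
    have hj' : HasLocSec Scheme.fpqcTopology j := by
      refine SchTorsor.hasLocSec_of_points j hT fun W y t => ?_
      refine ⟨Over.homMk (pullback.lift (lift (y ≫ eps X) t).left (y.left ≫ pullback.snd X.hom (Neron.genPt R)) ?_) ?_, ?_⟩
      · rw [Over.w, Category.assoc]
        exact (Over.w y).symm
      · show pullback.lift _ _ _ ≫ pullback.snd (X ⊗ T).hom (Neron.genPt R) ≫ (Neron.genPt R) = W.hom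
        rw [pullback.lift_snd_assoc, Category.assoc]
        exact Over.w y
      · refine Over.OverMorphism.ext (pullback.hom_ext ?_ ?_)
        · show (pullback.lift _ _ _ ≫ ((Over.pullback (Neron.genPt R)).map (fst X T)).left) ≫ pullback.fst X.hom (Neron.genPt R) = _
          rw [Category.assoc, show ((Over.pullback (Neron.genPt R)).map (fst X T)).left ≫ pullback.fst X.hom (Neron.genPt R) =
              pullback.fst (X ⊗ T).hom (Neron.genPt R) ≫ (fst X T).left from pullback.lift_fst _ _ _, pullback.lift_fst_assoc,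
            ← Over.comp_left, lift_fst]
          rfl
        · show (pullback.lift _ _ _ ≫ ((Over.pullback (Neron.genPt R)).map (fst X T)).left) ≫ pullback.snd X.hom (Neron.genPt R) = _
          rw [Category.assoc, show ((Over.pullback (Neron.genPt R)).map (fst X T)).left ≫ pullback.snd X.hom (Neron.genPt R) =
              pullback.snd (X ⊗ T).hom (Neron.genPt R) from pullback.lift_snd _ _ _, pullback.lift_snd]
    refine hj'.hom_ext ?_
    rw [← Category.assoc, eps_naturality, Category.assoc, hθ, hθ₁, ← gp_comp, eps_naturality]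
  refine ⟨θ, ?_⟩
  haveI : Flat (G ⊗ X).hom := inferInstanceAs (Flat (pullback.fst G.hom X.hom ≫ G.hom))
  refine eq_of_generic ?_
  rw [← Category.assoc, ← eps_naturality, Category.assoc, hgen, ← gp_comp, eps_naturality]
  have h2 : eps (G ⊗ X) ≫ a.act = lift (eps (G ⊗ X) ≫ fst G X) (eps (G ⊗ X) ≫ snd G X) ≫ a.act := by
    rw [← comp_lift, lift_fst_snd, Category.comp_id]
  rw [h2, gp_act, ← eps_naturality (snd G X), gp_comp, ← hgen, ← Category.assoc, eps_naturality,
    Category.assoc]
  have h3 : eps (G ⊗ X) ≫ (G ◁ θ) ≫ b.act =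
      lift (eps (G ⊗ X) ≫ fst G X) (eps (G ⊗ X) ≫ snd G X ≫ θ) ≫ b.act := by
    rw [← Category.assoc (eps (G ⊗ X)) (snd G X) θ, ← lift_whiskerLeft_assoc, ← comp_lift, lift_fst_snd,
      Category.comp_id]
  exact h3.symm

end Groth.Agent.H9TorsInj
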