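import Groth.Agent.H9TorsInj.Generic
import Groth.Agent.H9TorsExt.Basic
import Groth.Agent.EssDimLib.FieldPts
import Groth.Agent.KrullAkiExt.Basic
import Mathlib.RingTheory.Flat.TorsionFree

/-!
Torsors under proper flat group schemes over Dedekind domains are determined by their generic fibres.
-/

set_option autoImplicit false
set_option linter.style.haveILetI false
set_option backward.isDefEq.respectTransparency false
set_option backward.isDefEq.respectTransparency.types false

universe u

open CategoryTheory CategoryTheory.Limits MonoidalCategory CartesianMonoidalCategory MonObj AlgebraicGeometry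

attribute [-instance] CategoryTheory.Hom.commGroup

namespace Groth.Agent.H9TorsInj

variable {R : Type u} [CommRing R] [IsDedekindDomain R]

/-- A proper scheme: field valued points extend to a Dedekind cover. -/
theorem exists_point {B : Type u} [CommRing B] [IsDedekindDomain B] [Algebra R B]
    (Z : Over (Spec (CommRingCat.of R))) [IsProper Z.hom]
    (q : Spec (CommRingCat.of (FractionRing B)) ⟶ Z.left)
    (hq : q ≫ Z.hom = Neron.genPt B ≫ Spec.map (CommRingCat.ofHom (algebraMap R B))) :
    ∃ x : Over.mk (Spec.map (CommRingCat.ofHom (algebraMap R B))) ⟶ Z, Neron.genPt B ≫ x.left = q := by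
  obtain ⟨s, hs, hs'⟩ := H9TorsExt.exists_section_extending B
    (pullback.snd Z.hom (Spec.map (CommRingCat.ofHom (algebraMap R B))))
    (pullback.lift q (Neron.genPt B) hq) (pullback.lift_snd _ _ _)
  refine ⟨Over.homMk (s ≫ pullback.fst _ _) ?_, ?_⟩
  · show (s ≫ pullback.fst _ _) ≫ Z.hom = Spec.map (CommRingCat.ofHom (algebraMap R B))
    rw [Category.assoc, pullback.condition, ← Category.assoc, hs, Category.id_comp]
  · show Neron.genPt B ≫ s ≫ pullback.fst _ _ = q
    rw [← Category.assoc, hs', pullback.lift_fst]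

theorem equivIso_equivalence {S : Scheme.{u}} {G : Over S} [GrpObj G] {K : Precoverage Scheme.{u}} :
    Equivalence (fun P Q : NonAbH1.TorsorSch G K => Nonempty (NonAbH1.EquivIso P.act Q.act)) where
  refl P := ⟨⟨Iso.refl _, by simp⟩⟩
  symm := fun ⟨e⟩ => ⟨⟨e.iso.symm, by
    rw [Iso.symm_hom, Iso.comp_inv_eq, Category.assoc, e.comm, ← Category.assoc,
      ← MonoidalCategory.whiskerLeft_comp, e.iso.inv_hom_id, MonoidalCategory.whiskerLeft_id, Category.id_comp]⟩⟩
  trans := fun ⟨e⟩ ⟨e'⟩ => ⟨⟨e.iso ≪≫ e'.iso, by
    rw [Iso.trans_hom, ← Category.assoc, e.comm, Category.assoc, e'.comm, ← Category.assoc,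
      ← MonoidalCategory.whiskerLeft_comp]⟩⟩

theorem injective (G : Over (Spec (CommRingCat.of R))) [GrpObj G] [IsProper G.hom] [Flat G.hom] :
    Function.Injective (NonAbH1.H1Sch.bcMap (Neron.genPt R) G Scheme.fppfPrecoverage) := by
  haveI : MorphismProperty.DescendsAlong @IsProper
      (@Surjective ⊓ @Flat ⊓ @QuasiCompact : MorphismProperty Scheme.{u}) := EtFound.fpqc_isProper
  rintro ⟨P⟩ ⟨Q⟩ h
  have h' : Relation.EqvGen (fun P Q : NonAbH1.TorsorSch (Red.bc (Neron.genPt R) G) Scheme.fppfPrecoverage =>
      Nonempty (NonAbH1.EquivIso P.act Q.act)) (P.bc (Neron.genPt R)) (Q.bc (Neron.genPt R)) := Quot.eqvGen_exact h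
  obtain ⟨e⟩ : Nonempty (NonAbH1.EquivIso (P.act.bc (Neron.genPt R)) (Q.act.bc (Neron.genPt R))) := by
    have : Equivalence (fun P Q : NonAbH1.TorsorSch (Red.bc (Neron.genPt R) G) Scheme.fppfPrecoverage =>
        Nonempty (NonAbH1.EquivIso P.act Q.act)) := equivIso_equivalence
    exact (Equivalence.eqvGen_iff this).1 h'
  have hP : NonAbH1.IsTorsorFor Scheme.fpqcPrecoverage P.act := ⟨P.isTorsor.1, P.isTorsor.2.choose,
    Scheme.fppfPrecoverage_le_fpqcPrecoverage _ P.isTorsor.2.choose_spec.1, P.isTorsor.2.choose_spec.2⟩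
  have hQ : NonAbH1.IsTorsorFor Scheme.fpqcPrecoverage Q.act := ⟨Q.isTorsor.1, Q.isTorsor.2.choose,
    Scheme.fppfPrecoverage_le_fpqcPrecoverage _ Q.isTorsor.2.choose_spec.1, Q.isTorsor.2.choose_spec.2⟩
  haveI : IsProper P.X.hom := SchTorsor.torsor_property @IsProper hP inferInstance
  haveI : IsProper Q.X.hom := SchTorsor.torsor_property @IsProper hQ inferInstance
  haveI : Flat P.X.hom := SchTorsor.torsor_property @Flat hP inferInstance
  -- a point over a finite extension
  obtain ⟨L, _, _, _, p, hp⟩ := EssDimLib.exists_finite_point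
    (NonAbH1.isLocallyTrivialFor_bc (Neron.genPt R) Scheme.fppfPrecoverage P.isTorsor.2)
  letI : Algebra R L := ((algebraMap (FractionRing R) L).comp (algebraMap R (FractionRing R))).toAlgebra
  haveI : IsScalarTower R (FractionRing R) L := IsScalarTower.of_algebraMap_eq fun _ => rfl
  let B := integralClosure R L
  haveI : Ring.KrullDimLE 1 R := inferInstance
  have hBL : Function.Injective (algebraMap B L) := Subtype.val_injective
  haveI : IsNoetherianRing B :=
    KrullAkiExt.isNoetherianRing_of_injective (R := R) (K := FractionRing R) L B hBL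
  haveI : Algebra.IsIntegral R B := IsIntegralClosure.isIntegral_algebra R L
  haveI : IsFractionRing B L := IsIntegralClosure.isFractionRing_of_finite_extension R (FractionRing R) L B
  haveI : IsIntegrallyClosed B := (isIntegrallyClosed_iff L).mpr fun {x} hx =>
    IsIntegralClosure.isIntegral_iff.mp (isIntegral_trans (R := R) x hx)
  haveI : Ring.DimensionLEOne B := Ring.DimensionLEOne.integralClosure R L
  haveI : IsDedekindDomain B := { }
  have hRB : Function.Injective (algebraMap R B) := fun x y hxy => by
    have := congrArg (algebraMap B L) hxy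
    rw [← IsScalarTower.algebraMap_apply, ← IsScalarTower.algebraMap_apply,
      IsScalarTower.algebraMap_apply R (FractionRing R) L, IsScalarTower.algebraMap_apply R (FractionRing R) L] at this
    exact IsFractionRing.injective R (FractionRing R) ((algebraMap (FractionRing R) L).injective this)
  let f := Spec.map (CommRingCat.ofHom (algebraMap R B))
  let T : Over (Spec (CommRingCat.of R)) := Over.mk f
  haveI : Module.IsTorsionFree R B := Module.isTorsionFree_iff_algebraMap_injective.2 hRB
  haveI : Flat T.hom := (HasRingHomProperty.Spec_iff (P := @Flat)).2 (RingHom.flat_algebraMap_iff.2 inferInstance)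
  haveI : Surjective T.hom := ⟨RingHom.IsIntegral.comap_surjective (Algebra.IsIntegral.isIntegral) hRB⟩
  haveI : QuasiCompact T.hom := inferInstanceAs (QuasiCompact f)
  -- the point and its image
  let al := FractionRing.algEquiv B L
  let l : Spec (CommRingCat.of (FractionRing B)) ⟶ Spec (CommRingCat.of L) :=
    Spec.map (CommRingCat.ofHom al.symm.toRingEquiv.toRingHom)
  let w := l ≫ Spec.map (CommRingCat.ofHom (algebraMap (FractionRing R) L))
  have hw : w ≫ Neron.genPt R = Neron.genPt B ≫ f := by
    simp only [w, l, f, ← Spec.map_comp, Category.assoc]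
    congr 1
    ext r
    show al.symm (algebraMap (FractionRing R) L (algebraMap R (FractionRing R) r)) =
      algebraMap B (FractionRing B) (algebraMap R B r)
    rw [← IsScalarTower.algebraMap_apply, IsScalarTower.algebraMap_apply R B L]
    exact al.symm.commutes _
  let W₁ : Over (Spec (CommRingCat.of (FractionRing R))) := Over.mk w
  let p' : W₁ ⟶ Red.bc (Neron.genPt R) P.X := Over.homMk (l ≫ p) (by
    show (l ≫ p) ≫ _ = w
    rw [Category.assoc, hp])
  let ξ : (Over.map (Neron.genPt R)).obj W₁ ⟶ P.X :=
    ((Over.mapPullbackAdj (Neron.genPt R)).homEquiv W₁ P.X).symm p'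
  obtain ⟨x₀, hx₀⟩ := exists_point (B := B) P.X ξ.left ((Over.w ξ).trans hw)
  obtain ⟨y₀, hy₀⟩ := exists_point (B := B) Q.X (gp e ξ).left ((Over.w (gp e ξ)).trans hw)
  have hgen : eps T ≫ y₀ = gp e (eps T ≫ x₀) := by
    let ι₁ : W₁ ⟶ Red.bc (Neron.genPt R) T :=
      Over.homMk (pullback.lift (Neron.genPt B) w hw.symm) (pullback.lift_snd _ _ _)
    have hι : ∀ {Z : Over (Spec (CommRingCat.of R))} (z : T ⟶ Z),
        (((Over.map (Neron.genPt R)).map ι₁) ≫ eps T ≫ z).left = Neron.genPt B ≫ z.left := fun z => by
      show pullback.lift _ _ _ ≫ pullback.fst _ _ ≫ z.left = _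
      rw [pullback.lift_fst_assoc]
    have hξ : (Over.map (Neron.genPt R)).map ι₁ ≫ eps T ≫ x₀ = ξ :=
      Over.OverMorphism.ext ((hι x₀).trans hx₀)
    have h1 : (Over.map (Neron.genPt R)).map ι₁ ≫ eps T ≫ y₀ =
        (Over.map (Neron.genPt R)).map ι₁ ≫ gp e (eps T ≫ x₀) := by
      rw [← gp_comp, hξ]
      exact Over.OverMorphism.ext ((hι y₀).trans hy₀)
    haveI : Flat (pullback.fst T.hom (Neron.genPt R)) := by
      haveI : Flat (Neron.genPt R) := (HasRingHomProperty.Spec_iff (P := @Flat)).2
        (RingHom.flat_algebraMap_iff.2 (IsLocalization.flat (FractionRing R) (nonZeroDivisors R)))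
      infer_instance
    haveI : Mono (Neron.genPt R) := by
      haveI : IsPreimmersion (Neron.genPt R) :=
        IsPreimmersion.of_isLocalization (S := FractionRing R) (nonZeroDivisors R)
      infer_instance
    let ε := pullback.fst T.hom (Neron.genPt R)
    haveI : IsSchemeTheoreticallyDominant (pullback.fst ε (Neron.genPt B)) := inferInstance
    have hfac : pullback.fst ε (Neron.genPt B) = pullback.snd ε (Neron.genPt B) ≫ ι₁.left := by
      rw [← cancel_mono ε, Category.assoc]
      refine pullback.condition.trans ?_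
      show _ = _ ≫ pullback.lift _ _ _ ≫ pullback.fst _ _
      rw [pullback.lift_fst]
    refine Over.OverMorphism.ext (NeronBasic.eq_of_stDominant Q.X.hom ?_ (pullback.fst ε (Neron.genPt B)) ?_)
    · rw [Over.w, Over.w]
    · rw [hfac, Category.assoc, Category.assoc]
      exact congrArg (pullback.snd ε (Neron.genPt B) ≫ ·) (congrArg CommaMorphism.left h1)
  obtain ⟨θ, hθ⟩ := exists_extension e T P.isTorsor.1 x₀ y₀ hgen
  haveI := SchTorsor.isIso_of_equivariant hP Q.isTorsor.1 θ hθ
  exact Quot.sound ⟨⟨asIso θ, hθ⟩⟩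

end Groth.Agent.H9TorsInj
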